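import Groth.Agent.Lib.Helper55.GF.FreeAway
import Mathlib.RingTheory.Localization.Module
import Mathlib.RingTheory.Localization.Away.Basic
import Mathlib.Algebra.Module.LocalizedModule.Away
import Mathlib.RingTheory.IsTensorProduct
import Mathlib.RingTheory.Localization.BaseChange
import Mathlib.Algebra.Module.LocalizedModule.IsLocalization
import Mathlib.LinearAlgebra.FreeModule.Basic

set_option autoImplicit false
universe u

open TensorProduct

namespace Groth.Agent.Lib.Helper55.GF

variable {R : Type u} [CommRing R]

section Chain

variable {M : Type u} [AddCommGroup M] [Module R M]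

lemma FreeAway.of_chain {f : R} (G : ℕ → Submodule R M) (h0 : G 0 = ⊥) (hmono : Monotone G)
    (hex : ∀ m, ∃ k, m ∈ G k) (h : ∀ k, FreeAwayMod f (G k) (G (k + 1))) : FreeAway M f := by
  classical
  choose ι v h1 h2 h3 using h
  let w : (Σ k, ι k) → M := fun x => v x.1 x.2
  have hS : ∀ k, Submodule.span R (Set.range (v k)) ≤ Submodule.span R (Set.range w) := by
    intro k
    apply Submodule.span_mono
    rintro _ ⟨i, rfl⟩
    exact ⟨⟨k, i⟩, rfl⟩
  have hspan : ∀ k, G k ≤ sat f (Submodule.span R (Set.range w)) := by
    intro k
    induction k with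
    | zero => rw [h0]; exact bot_le
    | succ k ih =>
      refine (h3 k).trans ?_
      rw [← sat_sat f (Submodule.span R (Set.range w))]
      exact sat_mono f (sup_le ih ((hS k).trans (le_sat f _)))
  have hvk : ∀ k (c : ι k →₀ R), Finsupp.linearCombination R (v k) c ∈ G (k + 1) := by
    intro k c
    have : Finsupp.linearCombination R (v k) c ∈ Submodule.span R (Set.range (v k)) := by
      rw [← Finsupp.range_linearCombination]
      exact ⟨c, rfl⟩
    exact (Submodule.span_le.2 (by rintro _ ⟨i, rfl⟩; exact h1 k i)) this
  refine ⟨Σ k, ι k, w, fun _ => Submodule.mem_top, fun c hc => ?_, fun m _ => ?_⟩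
  · by_contra hne
    have hne' : c.splitSupport.Nonempty := by
      rw [Finset.nonempty_iff_ne_empty]
      intro he
      apply hne
      have : c.support = ∅ := by
        rw [Finsupp.sigma_support, he]
        rfl
      exact Finsupp.support_eq_empty.1 this
    set K := c.splitSupport.max' hne' with hK
    have hKmem : K ∈ c.splitSupport := Finset.max'_mem _ _
    have hsum : Finsupp.linearCombination R w c =
        ∑ k ∈ c.splitSupport, Finsupp.linearCombination R (v k) (c.split k) := by
      rw [Finsupp.linearCombination_apply, Finsupp.sigma_sum]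
      refine Finset.sum_congr rfl fun k _ => ?_
      rw [Finsupp.linearCombination_apply]
    rw [Submodule.mem_bot, hsum, ← Finset.add_sum_erase _ _ hKmem] at hc
    have hrest : ∑ k ∈ c.splitSupport.erase K, Finsupp.linearCombination R (v k) (c.split k) ∈
        G K := by
      refine Submodule.sum_mem _ fun k hk => ?_
      have hkK : k < K := by
        have h1 := Finset.le_max' _ k (Finset.mem_of_mem_erase hk)
        have h2 := Finset.ne_of_mem_erase hk
        exact lt_of_le_of_ne h1 h2
      exact hmono (Nat.succ_le_of_lt hkK) (hvk k _)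
    have hKin : Finsupp.linearCombination R (v K) (c.split K) ∈ G K := by
      have := eq_neg_of_add_eq_zero_left hc
      rw [this]
      exact Submodule.neg_mem _ hrest
    exact (Finsupp.mem_splitSupport_iff_nonzero c K).1 hKmem (h2 K _ hKin)
  · obtain ⟨k, hk⟩ := hex m
    rw [bot_sup_eq]
    exact hspan k hk

end Chain

section Base

variable [IsDomain R] (M : Type u) [AddCommGroup M] [Module R M]

lemma exists_freeAway_of_finite [Module.Finite R M] : ∃ f : R, f ≠ 0 ∧ FreeAway M f := by
  classical
  obtain ⟨s, hs, hmax⟩ := exists_maximal_linearIndepOn R (id : M → M)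
  obtain ⟨t, ht⟩ := (Module.finite_def.1 ‹Module.Finite R M›)
  have hex : ∀ m : M, ∃ a : R, a ≠ 0 ∧ a • m ∈ Submodule.span R s := by
    intro m
    by_cases hm : m ∈ s
    · exact ⟨1, one_ne_zero, by rw [one_smul]; exact Submodule.subset_span hm⟩
    · obtain ⟨a, ha, ham⟩ := hmax m hm
      exact ⟨a, ha, by simpa using ham⟩
  choose a ha ham using hex
  refine ⟨∏ m ∈ t, a m, Finset.prod_ne_zero_iff.2 fun m _ => ha m, ?_⟩
  refine ⟨s, fun i => (i : M), fun _ => Submodule.mem_top, fun c hc => ?_, ?_⟩
  · rw [Submodule.mem_bot] at hc
    have hli : LinearIndependent R (fun i : s => (i : M)) := hs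
    exact (linearIndependent_iff.1 hli) c hc
  · rw [bot_sup_eq, Subtype.range_coe_subtype, Set.setOf_mem_eq, ← ht]
    rw [Submodule.span_le]
    intro m hm
    refine ⟨1, ?_⟩
    rw [pow_one, ← Finset.mul_prod_erase _ _ hm, mul_comm, mul_smul]
    exact Submodule.smul_mem _ _ (ham m)

end Base

section Conv

variable {M : Type u} [AddCommGroup M] [Module R M]

lemma FreeAway.free_localizedModule {f : R} (h : FreeAway M f) :
    Module.Free (Localization.Away f) (LocalizedModule (Submonoid.powers f) M) := by
  obtain ⟨ι, v, -, h2, h3⟩ := h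
  have hli : LinearIndependent R v := by
    rw [linearIndependent_iff]
    intro c hc
    exact h2 c (by rw [hc]; exact Submodule.zero_mem _)
  let φ := LocalizedModule.mkLinearMap (Submonoid.powers f) M
  have hli' : LinearIndependent (Localization.Away f) (φ ∘ v) :=
    hli.of_isLocalizedModule (Localization.Away f) (Submonoid.powers f) φ
  have hspan : ⊤ ≤ Submodule.span (Localization.Away f) (Set.range (φ ∘ v)) := by
    intro x _
    obtain ⟨⟨m, s⟩, hms⟩ := IsLocalizedModule.surj (Submonoid.powers f) φ x
    obtain ⟨n, hn⟩ := h3 (Submodule.mem_top : m ∈ ⊤)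
    rw [bot_sup_eq] at hn
    have h4 : φ (f ^ n • m) ∈ Submodule.span (Localization.Away f) (Set.range (φ ∘ v)) := by
      have : φ (f ^ n • m) ∈ Submodule.map φ (Submodule.span R (Set.range v)) := ⟨_, hn, rfl⟩
      rw [Submodule.map_span, ← Set.range_comp] at this
      exact Submodule.span_subset_span R (Localization.Away f) _ this
    have hu : IsUnit (algebraMap R (Localization.Away f) (f ^ n * s)) :=
      IsLocalization.map_units (Localization.Away f)
        (⟨f ^ n * s, Submonoid.mul_mem _ (Submonoid.pow_mem _ (Submonoid.mem_powers f) n) s.2⟩ :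
          Submonoid.powers f)
    have h5 : algebraMap R (Localization.Away f) (f ^ n * s) • x = φ (f ^ n • m) := by
      rw [algebraMap_smul, mul_smul, map_smul, ← hms]
      rfl
    have h6 : x = hu.unit⁻¹ • φ (f ^ n • m) := by
      rw [← h5, Units.smul_def, ← mul_smul, IsUnit.val_inv_mul, one_smul]
    rw [h6]
    exact Submodule.smul_mem _ _ h4
  exact Module.Free.of_basis (Module.Basis.mk hli' hspan)

lemma FreeAway.free_tensor {f : R} (h : FreeAway M f) :
    Module.Free (Localization.Away f) (Localization.Away f ⊗[R] M) := by
  have := h.free_localizedModule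
  exact Module.Free.of_equiv
    (IsLocalizedModule.isBaseChange (Submonoid.powers f) (Localization.Away f)
      (LocalizedModule.mkLinearMap (Submonoid.powers f) M)).equiv.symm

end Conv

end Groth.Agent.Lib.Helper55.GF
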