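import Groth.Agent.Lib.Helper55.GF.Main
import Mathlib.RingTheory.FiniteStability

set_option autoImplicit false
set_option linter.unusedSectionVars false
set_option linter.style.haveILetI false
universe u

open TensorProduct

namespace Groth.Agent.Lib.Helper55.GF

variable {R : Type u} [CommRing R] [IsDomain R]

theorem finitePresentation_tensor_of_torsion {P S : Type u} [CommRing P] [CommRing S]
    [Algebra R P] [Algebra R S] [Algebra.FinitePresentation R P] (φ : P →ₐ[R] S)
    (hφ : Function.Surjective φ) (s : Finset P) (hs : (↑s : Set P) ⊆ RingHom.ker φ) (f : R)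
    (hT : ∀ y ∈ RingHom.ker φ, ∃ n : ℕ, f ^ n • y ∈ Ideal.span (s : Set P)) :
    Algebra.FinitePresentation (Localization.Away f) (Localization.Away f ⊗[R] S) := by
  classical
  let B := Localization.Away f
  let g : B ⊗[R] P →ₐ[B] B ⊗[R] S := Algebra.TensorProduct.map (AlgHom.id B B) φ
  have hgsurj : Function.Surjective g := by
    intro x
    induction x using TensorProduct.induction_on with
    | zero => exact ⟨0, map_zero _⟩
    | tmul b t =>
      obtain ⟨p, rfl⟩ := hφ t
      exact ⟨b ⊗ₜ p, Algebra.TensorProduct.map_tmul _ _ _ _⟩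
    | add x y hx hy =>
      obtain ⟨x', rfl⟩ := hx
      obtain ⟨y', rfl⟩ := hy
      exact ⟨x' + y', map_add _ _ _⟩
  have hker_eq : RingHom.ker g = Ideal.map Algebra.TensorProduct.includeRight (RingHom.ker φ) :=
    Algebra.TensorProduct.lTensor_ker φ hφ
  let incl : P →ₐ[R] B ⊗[R] P := Algebra.TensorProduct.includeRight
  have hker2 : Ideal.map incl (RingHom.ker φ) = Ideal.span (incl '' (s : Set P)) := by
    apply le_antisymm
    · rw [Ideal.map_le_iff_le_comap]
      intro y hy
      obtain ⟨n, hn⟩ := hT y hy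
      rw [Ideal.mem_comap]
      have h1 : incl (f ^ n • y) ∈ Ideal.span (incl '' (s : Set P)) := by
        rw [← Ideal.map_span]
        exact Ideal.mem_map_of_mem _ hn
      have e : f ^ n • incl y = algebraMap R (B ⊗[R] P) (f ^ n) * incl y := by
        rw [Algebra.algebraMap_eq_smul_one, smul_mul_assoc, one_mul]
      rw [map_smul, e] at h1
      have hu : IsUnit (algebraMap R (B ⊗[R] P) (f ^ n)) := by
        rw [IsScalarTower.algebraMap_apply R B (B ⊗[R] P), map_pow]
        exact ((IsLocalization.Away.algebraMap_isUnit f).pow n).map _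
      exact (Ideal.unit_mul_mem_iff_mem _ hu).1 h1
    · rw [Ideal.span_le]
      rintro _ ⟨y, hy, rfl⟩
      exact Ideal.mem_map_of_mem _ (hs hy)
  have hfg : (RingHom.ker g.toRingHom).FG := by
    have : RingHom.ker g.toRingHom = Ideal.span (incl '' (s : Set P)) := hker_eq.trans hker2
    rw [this]
    exact ⟨s.image incl, by rw [Finset.coe_image]⟩
  exact Algebra.FinitePresentation.of_surjective hgsurj hfg

theorem exists_finitePresentation_tensor (S : Type u) [CommRing S] [Algebra R S]
    [Algebra.FiniteType R S] : ∃ f : R, f ≠ 0 ∧ ∀ g : R,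
      Algebra.FinitePresentation (Localization.Away (f * g)) (Localization.Away (f * g) ⊗[R] S) := by
  classical
  obtain ⟨n, φ, hφ⟩ := Algebra.FiniteType.iff_quotient_mvPolynomial''.1
    (inferInstance : Algebra.FiniteType R S)
  obtain ⟨s, hsI, hs⟩ := genNoeth_ideal (genNoeth_mvPolynomial (R := R) n) (RingHom.ker φ)
  let S' := MvPolynomial (Fin n) R ⧸ Ideal.span (s : Set (MvPolynomial (Fin n) R))
  obtain ⟨f, hf0, hf⟩ := gfprop_of_finiteType (R := R) S' S'
  refine ⟨f, hf0, fun g => ?_⟩
  refine finitePresentation_tensor_of_torsion φ hφ s hsI (f * g) fun y hy => ?_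
  obtain ⟨r, hr, hry⟩ := hs y hy
  have h1 : r • (Ideal.Quotient.mk (Ideal.span (s : Set (MvPolynomial (Fin n) R))) y : S') = 0 := by
    have : (Ideal.Quotient.mk (Ideal.span (s : Set (MvPolynomial (Fin n) R))) (r • y) : S') = 0 :=
      Ideal.Quotient.eq_zero_iff_mem.2 hry
    rw [← this]
    rfl
  obtain ⟨k, hk⟩ := hf.pow_smul_eq_zero_of_torsion hr h1
  refine ⟨k, ?_⟩
  have h2 : (Ideal.Quotient.mk (Ideal.span (s : Set (MvPolynomial (Fin n) R))) (f ^ k • y) : S') =
      0 := by
    rw [← hk]
    rfl
  have h3 := Ideal.Quotient.eq_zero_iff_mem.1 h2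
  rw [mul_pow, mul_comm, mul_smul]
  exact Submodule.smul_of_tower_mem _ (g ^ k) h3

theorem exists_finitePresentation_localizedModule (S M : Type u) [CommRing S] [Algebra R S]
    [Algebra.FiniteType R S] [AddCommGroup M] [Module S M] [Module R M] [IsScalarTower R S M]
    [Module.Finite S M] : ∃ f : R, f ≠ 0 ∧ ∀ g : R,
      Module.FinitePresentation (Localization.Away (algebraMap R S (f * g)))
        (LocalizedModule (Submonoid.powers (algebraMap R S (f * g))) M) := by
  classical
  obtain ⟨q, π, hπ⟩ := Module.Finite.exists_fin' S M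
  obtain ⟨s, hsW, hs⟩ := genNoeth_of_finiteType (R := R) S q (LinearMap.ker π)
  let M' := (Fin q → S) ⧸ Submodule.span S (s : Set (Fin q → S))
  have hle : Submodule.span S (s : Set (Fin q → S)) ≤ LinearMap.ker π := Submodule.span_le.2 hsW
  let ρ : M' →ₗ[S] M := Submodule.liftQ _ π hle
  have hρsurj : Function.Surjective ρ := by
    intro m
    obtain ⟨x, rfl⟩ := hπ m
    exact ⟨Submodule.Quotient.mk x, rfl⟩
  haveI : Module.FinitePresentation S M' :=
    Module.finitePresentation_of_surjective (Submodule.mkQ _) (Submodule.mkQ_surjective _)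
      (by rw [Submodule.ker_mkQ]; exact ⟨s, rfl⟩)
  obtain ⟨f, hf0, hf⟩ := gfprop_of_finiteType (R := R) S M'
  refine ⟨f, hf0, fun g => ?_⟩
  set f' : S := algebraMap R S (f * g) with hf'
  have hker : ∀ x : M', ρ x = 0 → ∃ k : ℕ, f' ^ k • x = 0 := by
    intro x hx
    obtain ⟨a, rfl⟩ := Submodule.Quotient.mk_surjective _ x
    have ha : a ∈ LinearMap.ker π := hx
    obtain ⟨r, hr, hra⟩ := hs a ha
    have h1 : r • (Submodule.Quotient.mk a : M') = 0 := by
      rw [← Submodule.Quotient.mk_smul]
      exact (Submodule.Quotient.mk_eq_zero _).2 hra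
    obtain ⟨k, hk⟩ := hf.pow_smul_eq_zero_of_torsion hr h1
    refine ⟨k, ?_⟩
    rw [hf', ← map_pow, algebraMap_smul, mul_pow, mul_comm, mul_smul, hk, smul_zero]
  have hinj : Function.Injective (LocalizedModule.map (Submonoid.powers f') ρ) := by
    rw [injective_iff_map_eq_zero]
    intro z hz
    induction z using LocalizedModule.induction_on with
    | h m t =>
      rw [LocalizedModule.map_mk, ← LocalizedModule.zero_mk t, LocalizedModule.mk_eq] at hz
      obtain ⟨u, hu⟩ := hz
      rw [smul_zero, smul_zero] at hu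
      have hu' : ρ (((u : S) * (t : S)) • m) = 0 := by
        rw [map_smul, mul_smul]
        exact hu
      obtain ⟨k, hk⟩ := hker _ hu'
      rw [← LocalizedModule.zero_mk t, LocalizedModule.mk_eq]
      refine ⟨⟨f' ^ k, Submonoid.pow_mem _ (Submonoid.mem_powers f') k⟩ * u, ?_⟩
      rw [smul_zero, smul_zero]
      show ((f' ^ k * (u : S)) : S) • ((t : S) • m) = 0
      rw [← mul_smul, mul_assoc]
      rw [← mul_smul] at hk
      exact hk
  have hbij : Function.Bijective (LocalizedModule.map (Submonoid.powers f') ρ) :=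
    ⟨hinj, LocalizedModule.map_surjective _ ρ hρsurj⟩
  exact Module.FinitePresentation.of_equiv (LinearEquiv.ofBijective _ hbij)

theorem generic_freeness (S M : Type u) [CommRing S] [Algebra R S] [Algebra.FiniteType R S]
    [AddCommGroup M] [Module S M] [Module R M] [IsScalarTower R S M] [Module.Finite S M] :
    ∃ f : R, f ≠ 0 ∧ Module.Free (Localization.Away f) (Localization.Away f ⊗[R] M) ∧
      Module.Free (Localization.Away f) (Localization.Away f ⊗[R] S) ∧
      Algebra.FinitePresentation (Localization.Away f) (Localization.Away f ⊗[R] S) ∧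
      Module.FinitePresentation (Localization.Away (algebraMap R S f))
        (LocalizedModule (Submonoid.powers (algebraMap R S f)) M) := by
  obtain ⟨f₁, h10, h1⟩ := gfprop_of_finiteType (R := R) S M
  obtain ⟨f₂, h20, h2⟩ := gfprop_of_finiteType (R := R) S S
  obtain ⟨f₃, h30, h3⟩ := exists_finitePresentation_tensor (R := R) S
  obtain ⟨f₄, h40, h4⟩ := exists_finitePresentation_localizedModule (R := R) S M
  refine ⟨f₁ * f₂ * f₃ * f₄, mul_ne_zero (mul_ne_zero (mul_ne_zero h10 h20) h30) h40, ?_, ?_, ?_, ?_⟩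
  · have : f₁ * f₂ * f₃ * f₄ = f₁ * (f₂ * f₃ * f₄) := by ring
    rw [this]
    exact FreeAway.free_tensor (FreeAwayMod.mul_right h1 _)
  · have : f₁ * f₂ * f₃ * f₄ = f₂ * (f₁ * f₃ * f₄) := by ring
    rw [this]
    exact FreeAway.free_tensor (FreeAwayMod.mul_right h2 _)
  · have : f₁ * f₂ * f₃ * f₄ = f₃ * (f₁ * f₂ * f₄) := by ring
    rw [this]
    exact h3 _
  · have : f₁ * f₂ * f₃ * f₄ = f₄ * (f₁ * f₂ * f₃) := by ring
    rw [this]
    exact h4 _

end Groth.Agent.Lib.Helper55.GF
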