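import Mathlib.LinearAlgebra.LinearIndependent.Lemmas
import Mathlib.LinearAlgebra.Finsupp.LinearCombination
import Mathlib.LinearAlgebra.Quotient.Basic
import Mathlib.RingTheory.Finiteness.Basic
import Mathlib.Algebra.Module.Submodule.Map

set_option autoImplicit false
universe u

namespace Groth.Agent.Lib.Helper55.GF

variable {R : Type u} [CommRing R]

section Sat

variable {M : Type u} [AddCommGroup M] [Module R M]

def sat (f : R) (N : Submodule R M) : Submodule R M where
  carrier := {m | ∃ n : ℕ, f ^ n • m ∈ N}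
  add_mem' := by
    rintro a b ⟨n, hn⟩ ⟨k, hk⟩
    refine ⟨n + k, ?_⟩
    rw [smul_add]
    refine N.add_mem ?_ ?_
    · rw [pow_add, mul_comm, mul_smul]
      exact N.smul_mem _ hn
    · rw [pow_add, mul_smul]
      exact N.smul_mem _ hk
  zero_mem' := ⟨0, by simp⟩
  smul_mem' := by
    rintro c a ⟨n, hn⟩
    exact ⟨n, by rw [smul_comm]; exact N.smul_mem c hn⟩

lemma mem_sat {f : R} {N : Submodule R M} {m : M} : m ∈ sat f N ↔ ∃ n : ℕ, f ^ n • m ∈ N :=
  Iff.rfl

lemma le_sat (f : R) (N : Submodule R M) : N ≤ sat f N := fun m hm => ⟨0, by simpa using hm⟩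

lemma sat_mono (f : R) {N N' : Submodule R M} (h : N ≤ N') : sat f N ≤ sat f N' :=
  fun _ ⟨n, hn⟩ => ⟨n, h hn⟩

lemma sat_sat (f : R) (N : Submodule R M) : sat f (sat f N) = sat f N := by
  apply le_antisymm
  · rintro m ⟨n, k, hk⟩
    exact ⟨k + n, by rw [pow_add, mul_smul]; exact hk⟩
  · exact le_sat f _

lemma sat_le_sat_mul (f g : R) (N : Submodule R M) : sat f N ≤ sat (f * g) N := by
  rintro m ⟨n, hn⟩
  exact ⟨n, by rw [mul_pow, mul_comm, mul_smul]; exact N.smul_mem _ hn⟩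

end Sat

section Defs

variable {M : Type u} [AddCommGroup M] [Module R M]

def FreeAwayMod (f : R) (L U : Submodule R M) : Prop :=
  ∃ (ι : Type u) (v : ι → M), (∀ i, v i ∈ U) ∧
    (∀ c : ι →₀ R, Finsupp.linearCombination R v c ∈ L → c = 0) ∧
    U ≤ sat f (L ⊔ Submodule.span R (Set.range v))

variable (M) in
def FreeAway (f : R) : Prop := FreeAwayMod f (⊥ : Submodule R M) ⊤

lemma FreeAwayMod.mul_right {f : R} {L U : Submodule R M} (h : FreeAwayMod f L U) (g : R) :
    FreeAwayMod (f * g) L U := by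
  obtain ⟨ι, v, h1, h2, h3⟩ := h
  exact ⟨ι, v, h1, h2, h3.trans (sat_le_sat_mul f g _)⟩

lemma FreeAwayMod.mul_left {f : R} {L U : Submodule R M} (h : FreeAwayMod f L U) (g : R) :
    FreeAwayMod (g * f) L U := by
  rw [mul_comm]
  exact h.mul_right g

end Defs

section Quot

variable {Q N : Type u} [AddCommGroup Q] [Module R Q] [AddCommGroup N] [Module R N]

lemma freeAwayMod_ker_of_freeAway {f : R} (π : Q →ₗ[R] N) (hπ : Function.Surjective π)
    (h : FreeAway N f) : FreeAwayMod f (LinearMap.ker π) ⊤ := by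
  obtain ⟨ι, w, -, h2, h3⟩ := h
  choose v hv using fun i => hπ (w i)
  have hvw : π ∘ v = w := funext hv
  refine ⟨ι, v, fun _ => Submodule.mem_top, fun c hc => ?_, fun m _ => ?_⟩
  · apply h2 c
    rw [Submodule.mem_bot, ← hvw, ← Finsupp.apply_linearCombination]
    exact hc
  · obtain ⟨n, hn⟩ := h3 (Submodule.mem_top : π m ∈ ⊤)
    rw [bot_sup_eq, ← hvw, Set.range_comp, ← Submodule.map_span] at hn
    obtain ⟨y, hy, hy'⟩ := hn
    refine ⟨n, ?_⟩
    have : f ^ n • m - y ∈ LinearMap.ker π := by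
      rw [LinearMap.mem_ker, map_sub, map_smul, hy', sub_self]
    have e : f ^ n • m = (f ^ n • m - y) + y := by abel
    rw [e]
    exact Submodule.add_mem _ (Submodule.mem_sup_left this) (Submodule.mem_sup_right hy)

end Quot

section Transfer

variable {Q M : Type u} [AddCommGroup Q] [Module R Q] [AddCommGroup M] [Module R M]

lemma FreeAwayMod.transfer {f : R} (ψ : Q →ₗ[R] M) (L : Submodule R M)
    (h : FreeAwayMod f (L.comap ψ) ⊤) : FreeAwayMod f L (L ⊔ LinearMap.range ψ) := by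
  obtain ⟨ι, v, -, h2, h3⟩ := h
  refine ⟨ι, ψ ∘ v, fun i => Submodule.mem_sup_right ⟨v i, rfl⟩, fun c hc => ?_, ?_⟩
  · apply h2 c
    rw [Submodule.mem_comap, Finsupp.apply_linearCombination]
    exact hc
  · refine sup_le ((le_sup_left).trans (le_sat f _)) ?_
    rintro _ ⟨q, rfl⟩
    obtain ⟨n, hn⟩ := h3 (Submodule.mem_top : q ∈ ⊤)
    obtain ⟨a, ha, b, hb, hab⟩ := Submodule.mem_sup.1 hn
    refine ⟨n, ?_⟩
    rw [← map_smul, ← hab, map_add]
    refine Submodule.add_mem _ (Submodule.mem_sup_left ha) (Submodule.mem_sup_right ?_)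
    rw [Set.range_comp, ← Submodule.map_span]
    exact ⟨b, hb, rfl⟩

end Transfer

section Torsion

variable [IsDomain R] {Q : Type u} [AddCommGroup Q] [Module R Q]

lemma FreeAwayMod.of_torsion {f : R} {Z Z' : Submodule R Q} (hZ : Z ≤ Z')
    (htor : ∀ z ∈ Z', ∃ r : R, r ≠ 0 ∧ r • z ∈ Z) (h : FreeAwayMod f Z ⊤) :
    FreeAwayMod f Z' ⊤ := by
  obtain ⟨ι, v, h1, h2, h3⟩ := h
  refine ⟨ι, v, h1, fun c hc => ?_, h3.trans (sat_mono f (sup_le_sup_right hZ _))⟩
  obtain ⟨r, hr, hrz⟩ := htor _ hc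
  rw [← map_smul] at hrz
  have := h2 _ hrz
  ext i
  have hi := DFunLike.congr_fun this i
  simp only [Finsupp.smul_apply, smul_eq_mul, Finsupp.coe_zero, Pi.zero_apply] at hi
  rcases mul_eq_zero.1 hi with h0 | h0
  · exact absurd h0 hr
  · simpa using h0

end Torsion

end Groth.Agent.Lib.Helper55.GF
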