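import Groth.Agent.Lib.Helper55.GF.Poly
import Mathlib.RingTheory.FinitePresentation
import Mathlib.Algebra.Module.FinitePresentation
import Mathlib.LinearAlgebra.TensorProduct.RightExactness
import Mathlib.RingTheory.TensorProduct.Basic

set_option autoImplicit false
set_option linter.unusedSectionVars false
set_option linter.style.haveILetI false
universe u

open TensorProduct

namespace Groth.Agent.Lib.Helper55.GF

variable {R : Type u} [CommRing R] [IsDomain R]

lemma FreeAway.pow_smul_eq_zero_of_torsion {N : Type u} [AddCommGroup N] [Module R N] {f : R}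
    (h : FreeAway N f) {x : N} {r : R} (hr : r ≠ 0) (hx : r • x = 0) :
    ∃ n : ℕ, f ^ n • x = 0 := by
  obtain ⟨ι, v, -, h2, h3⟩ := h
  obtain ⟨n, hn⟩ := h3 (Submodule.mem_top : x ∈ ⊤)
  rw [bot_sup_eq] at hn
  obtain ⟨c, hc⟩ := (Finsupp.mem_span_range_iff_exists_finsupp).1 hn
  rw [← Finsupp.linearCombination_apply] at hc
  refine ⟨n, ?_⟩
  have h4 : Finsupp.linearCombination R v (r • c) = 0 := by
    rw [map_smul, hc, smul_comm, hx, smul_zero]
  have h5 := h2 (r • c) (by rw [h4]; exact Submodule.zero_mem _)
  have h6 : c = 0 := by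
    ext i
    have hi := DFunLike.congr_fun h5 i
    simp only [Finsupp.smul_apply, smul_eq_mul, Finsupp.coe_zero, Pi.zero_apply] at hi
    rcases mul_eq_zero.1 hi with h0 | h0
    · exact absurd h0 hr
    · simpa using h0
  rw [← hc, h6, map_zero]

theorem genNoeth_of_surjective {A B : Type u} [CommRing A] [CommRing B] [Algebra R A]
    [Algebra R B] (φ : A →ₐ[R] B) (hφ : Function.Surjective φ) (hA : GenNoeth R A) :
    GenNoeth R B := by
  classical
  intro q W
  let φq : (Fin q → A) →+ (Fin q → B) :=
    { toFun := fun x i => φ (x i)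
      map_zero' := by ext i; simp
      map_add' := fun x y => by ext i; simp }
  have hφq_smul : ∀ (a : A) (x : Fin q → A), φq (a • x) = φ a • φq x := fun a x => by
    ext i
    simp [φq]
  have hφq_rsmul : ∀ (r : R) (x : Fin q → A), φq (r • x) = r • φq x := fun r x => by
    ext i
    simp [φq]
  have hφq_surj : Function.Surjective φq := fun y => by
    choose x hx using fun i => hφ (y i)
    exact ⟨x, funext hx⟩
  let W' : Submodule A (Fin q → A) :=
    { carrier := {x | φq x ∈ W}
      zero_mem' := by simp
      add_mem' := fun {x y} hx hy => by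
        show φq (x + y) ∈ W
        rw [map_add]
        exact W.add_mem hx hy
      smul_mem' := fun a x hx => by
        show φq (a • x) ∈ W
        rw [hφq_smul]
        exact W.smul_mem _ hx }
  obtain ⟨s, hsW, hs⟩ := hA q W'
  refine ⟨s.image φq, ?_, fun w hw => ?_⟩
  · rw [Finset.coe_image]
    rintro _ ⟨x, hx, rfl⟩
    exact hsW hx
  · obtain ⟨x, rfl⟩ := hφq_surj w
    obtain ⟨r, hr, hrx⟩ := hs x hw
    refine ⟨r, hr, ?_⟩
    rw [← hφq_rsmul, Finset.coe_image]
    have : Submodule.span A (s : Set (Fin q → A)) ≤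
        (Submodule.span B (φq '' (s : Set (Fin q → A)))).comap
          ({ toFun := φq
             map_add' := map_add φq
             map_smul' := fun a x => by
               simp only [RingHom.coe_coe]
               exact hφq_smul a x } : (Fin q → A) →ₛₗ[(φ : A →+* B)] (Fin q → B)) := by
      rw [Submodule.span_le]
      intro y hy
      exact Submodule.subset_span ⟨y, hy, rfl⟩
    exact this hrx

theorem genNoeth_of_finiteType (A : Type u) [CommRing A] [Algebra R A] [Algebra.FiniteType R A] :
    GenNoeth R A := by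
  obtain ⟨n, φ, hφ⟩ := Algebra.FiniteType.iff_quotient_mvPolynomial''.1
    (inferInstance : Algebra.FiniteType R A)
  exact genNoeth_of_surjective φ hφ (genNoeth_mvPolynomial n)

theorem genNoeth_ideal {A : Type u} [CommRing A] [Algebra R A] (hA : GenNoeth R A) (I : Ideal A) :
    ∃ s : Finset A, (↑s : Set A) ⊆ I ∧ ∀ y ∈ I, ∃ r : R, r ≠ 0 ∧ r • y ∈ Ideal.span (s : Set A) := by
  classical
  let e : (Fin 1 → A) ≃ₗ[A] A := LinearEquiv.funUnique (Fin 1) A A
  obtain ⟨s, hsW, hs⟩ := hA 1 (Submodule.comap e.toLinearMap I)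
  refine ⟨s.image e, ?_, fun y hy => ?_⟩
  · rw [Finset.coe_image]
    rintro _ ⟨x, hx, rfl⟩
    exact hsW hx
  · obtain ⟨r, hr, hry⟩ := hs (e.symm y) (by
      show e (e.symm y) ∈ I
      rw [e.apply_symm_apply]
      exact hy)
    refine ⟨r, hr, ?_⟩
    have h1 : e (r • e.symm y) ∈ Submodule.map e.toLinearMap
        (Submodule.span A (s : Set (Fin 1 → A))) := ⟨_, hry, rfl⟩
    rw [Submodule.map_span] at h1
    have h2 : e (r • e.symm y) = r • y := by
      rw [← algebraMap_smul A r (e.symm y), map_smul, e.apply_symm_apply, algebraMap_smul]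
    rw [h2, Finset.coe_image] at *
    exact h1

end Groth.Agent.Lib.Helper55.GF
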