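import Groth.Agent.Lib.Helper55.GF.Step
import Mathlib.RingTheory.MvPolynomial.Localization
import Mathlib.RingTheory.Polynomial.Basic
import Mathlib.RingTheory.FiniteType
import Mathlib.RingTheory.Localization.FractionRing
import Mathlib.Algebra.MvPolynomial.Equiv

set_option autoImplicit false
universe u

open Polynomial

namespace Groth.Agent.Lib.Helper55.GF

variable {R : Type u} [CommRing R] [IsDomain R]

set_option linter.unusedSectionVars false
set_option linter.style.haveILetI false

section GenNoethPoly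

variable (n : ℕ)

local notation "K" => FractionRing R
local notation "PR" => MvPolynomial (Fin n) R
local notation "PK" => MvPolynomial (Fin n) (FractionRing R)

noncomputable abbrev ιP : MvPolynomial (Fin n) R →+* MvPolynomial (Fin n) (FractionRing R) :=
  MvPolynomial.map (algebraMap R (FractionRing R))

lemma ιP_injective : Function.Injective (ιP (R := R) n) :=
  MvPolynomial.map_injective _ (IsFractionRing.injective R (FractionRing R))

lemma exists_clear_denom (c : MvPolynomial (Fin n) (FractionRing R)) :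
    ∃ r : R, r ≠ 0 ∧ ∃ c' : MvPolynomial (Fin n) R,
      ιP n (MvPolynomial.C r) * c = ιP n c' := by
  induction c using MvPolynomial.induction_on with
  | C a =>
    obtain ⟨⟨x, s⟩, hxs⟩ := IsLocalization.surj (nonZeroDivisors R) a
    refine ⟨s, nonZeroDivisors.ne_zero s.2, MvPolynomial.C x, ?_⟩
    rw [MvPolynomial.map_C, MvPolynomial.map_C, ← MvPolynomial.C_mul, mul_comm, hxs]
  | add p p' hp hp' =>
    obtain ⟨r, hr, c, hc⟩ := hp
    obtain ⟨r', hr', c', hc'⟩ := hp'
    refine ⟨r * r', mul_ne_zero hr hr', MvPolynomial.C r' * c + MvPolynomial.C r * c', ?_⟩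
    have e : ιP n (MvPolynomial.C (r * r')) * (p + p') =
        ιP n (MvPolynomial.C r') * (ιP n (MvPolynomial.C r) * p) +
          ιP n (MvPolynomial.C r) * (ιP n (MvPolynomial.C r') * p') := by
      rw [MvPolynomial.C_mul, map_mul]
      ring
    rw [e, hc, hc', map_add, map_mul, map_mul]
  | mul_X p i hp =>
    obtain ⟨r, hr, c, hc⟩ := hp
    refine ⟨r, hr, c * MvPolynomial.X i, ?_⟩
    rw [map_mul, ← hc, MvPolynomial.map_X, mul_assoc]

variable {n} {q : ℕ}

noncomputable def ιq (x : Fin q → MvPolynomial (Fin n) R) :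
    Fin q → MvPolynomial (Fin n) (FractionRing R) := fun i => ιP n (x i)

lemma ιq_smul (p : MvPolynomial (Fin n) R) (x : Fin q → MvPolynomial (Fin n) R) :
    ιq (p • x) = ιP n p • ιq x := by
  ext i
  simp [ιq]

lemma ιq_add (x y : Fin q → MvPolynomial (Fin n) R) : ιq (x + y) = ιq x + ιq y := by
  ext i
  simp [ιq]

lemma ιq_zero : ιq (0 : Fin q → MvPolynomial (Fin n) R) = 0 := by
  ext i
  simp [ιq]

lemma ιq_injective : Function.Injective (ιq (R := R) (n := n) (q := q)) := by
  intro x y h
  ext i : 1
  exact ιP_injective n (congrFun h i)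

lemma key (Z : Submodule (MvPolynomial (Fin n) R) (Fin q → MvPolynomial (Fin n) R))
    (x : Fin q → MvPolynomial (Fin n) R)
    (hx : ιq x ∈ Submodule.span (MvPolynomial (Fin n) (FractionRing R)) (ιq '' (Z : Set _))) :
    ∃ r : R, r ≠ 0 ∧ r • x ∈ Z := by
  let T : Submodule (MvPolynomial (Fin n) (FractionRing R))
      (Fin q → MvPolynomial (Fin n) (FractionRing R)) :=
    { carrier := {y | ∃ r : R, r ≠ 0 ∧ ∃ z ∈ Z, ιP n (MvPolynomial.C r) • y = ιq z}
      zero_mem' := ⟨1, one_ne_zero, 0, Z.zero_mem, by rw [smul_zero, ιq_zero]⟩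
      add_mem' := by
        rintro y y' ⟨r, hr, z, hz, e⟩ ⟨r', hr', z', hz', e'⟩
        refine ⟨r * r', mul_ne_zero hr hr',
          MvPolynomial.C r' • z + MvPolynomial.C r • z',
          Z.add_mem (Z.smul_mem _ hz) (Z.smul_mem _ hz'), ?_⟩
        rw [ιq_add, ιq_smul, ιq_smul, ← e, ← e', smul_add, MvPolynomial.C_mul, map_mul,
          smul_smul, smul_smul, mul_comm]
      smul_mem' := by
        rintro c y ⟨r, hr, z, hz, e⟩
        obtain ⟨rc, hrc, c', hc'⟩ := exists_clear_denom n c
        refine ⟨rc * r, mul_ne_zero hrc hr, c' • z, Z.smul_mem _ hz, ?_⟩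
        rw [ιq_smul, ← e, ← hc', MvPolynomial.C_mul, map_mul, smul_smul, smul_smul]
        congr 1
        ring }
  have hT : Submodule.span (MvPolynomial (Fin n) (FractionRing R)) (ιq '' (Z : Set _)) ≤ T := by
    rw [Submodule.span_le]
    rintro _ ⟨z, hz, rfl⟩
    refine ⟨1, one_ne_zero, z, hz, ?_⟩
    rw [MvPolynomial.C_1, map_one, one_smul]
  obtain ⟨r, hr, z, hz, e⟩ := hT hx
  refine ⟨r, hr, ?_⟩
  rw [← ιq_smul] at e
  have := ιq_injective e
  rw [← algebraMap_smul (MvPolynomial (Fin n) R) r x, MvPolynomial.algebraMap_eq, this]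
  exact hz

theorem genNoeth_mvPolynomial (n : ℕ) : GenNoeth R (MvPolynomial (Fin n) R) := by
  classical
  intro q W
  have hfg : (Submodule.span (MvPolynomial (Fin n) (FractionRing R))
      (ιq '' (W : Set (Fin q → MvPolynomial (Fin n) R)))).FG :=
    IsNoetherian.noetherian _
  obtain ⟨s', hs'W, hs'⟩ := (Submodule.fg_span_iff_fg_span_finset_subset _).1 hfg
  obtain ⟨s, hsW, rfl⟩ := Finset.subset_set_image_iff.1 hs'W
  refine ⟨s, hsW, fun w hw => ?_⟩
  apply key
  have h1 : ιq w ∈ Submodule.span (MvPolynomial (Fin n) (FractionRing R))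
      (ιq '' (W : Set (Fin q → MvPolynomial (Fin n) R))) :=
    Submodule.subset_span ⟨w, hw, rfl⟩
  rw [hs'] at h1
  refine Submodule.span_mono ?_ h1
  rw [Finset.coe_image]
  exact Set.image_mono Submodule.subset_span

end GenNoethPoly

section Wrap

theorem gfprop_of_surjective {A B : Type u} [CommRing A] [CommRing B] [Algebra R A] [Algebra R B]
    (φ : A →ₐ[R] B) (hφ : Function.Surjective φ) (hA : GFprop R A) : GFprop R B := by
  intro N _ _ _ _ _
  letI : Module A N := Module.compHom N (φ : A →+* B)
  have hsm : ∀ (a : A) (x : N), a • x = φ a • x := fun _ _ => rfl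
  haveI : IsScalarTower R A N := ⟨fun r a x => by
    rw [hsm, hsm, map_smul, smul_assoc]⟩
  haveI : Module.Finite A N := by
    obtain ⟨s, hs⟩ := (Module.finite_def.1 (inferInstance : Module.Finite B N))
    refine ⟨⟨s, ?_⟩⟩
    rw [eq_top_iff]
    rintro x -
    have hx : x ∈ Submodule.span B (s : Set N) := by rw [hs]; exact Submodule.mem_top
    induction hx using Submodule.span_induction with
    | mem y hy => exact Submodule.subset_span hy
    | zero => exact Submodule.zero_mem _
    | add y z _ _ hy hz => exact Submodule.add_mem _ hy hz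
    | smul b y _ hy =>
      obtain ⟨a, rfl⟩ := hφ b
      rw [← hsm]
      exact Submodule.smul_mem _ a hy
  exact hA N

theorem gfprop_polynomial {P : Type u} [CommRing P] [Algebra R P] (hN : GenNoeth R P)
    (hP : GFprop R P) : GFprop R P[X] := by
  intro M _ _ _ _ _
  letI : Module P M := Module.compHom M (Polynomial.C : P →+* P[X])
  have hsm : ∀ (a : P) (x : M), a • x = (Polynomial.C a : P[X]) • x := fun _ _ => rfl
  haveI : IsScalarTower R P M := ⟨fun r a x => by
    rw [hsm, hsm, ← Polynomial.smul_C, smul_assoc]⟩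
  let X : M →ₗ[P] M :=
    { toFun := fun m => (Polynomial.X : P[X]) • m
      map_add' := fun a b => smul_add _ a b
      map_smul' := fun a m => by
        simp only [RingHom.id_apply]
        rw [hsm, hsm, smul_smul, smul_smul, mul_comm] }
  have hX : ∀ (j : ℕ) (m : M), (X ^ j) m = (Polynomial.X ^ j : P[X]) • m := by
    intro j
    induction j with
    | zero => intro m; simp
    | succ j ih =>
      intro m
      rw [pow_succ', Module.End.mul_apply, ih, pow_succ', mul_smul]
      rfl
  obtain ⟨q, g, hg⟩ := Module.Finite.exists_fin (R := P[X]) (M := M)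
  refine core M hN hP X g fun m => ?_
  have hm : m ∈ Submodule.span P[X] (Set.range g) := by rw [hg]; exact Submodule.mem_top
  obtain ⟨p, rfl⟩ := (Submodule.mem_span_range_iff_exists_fun _).1 hm
  refine ⟨Finset.univ.sup (fun i => (p i).natDegree) + 1, ?_⟩
  refine Submodule.sum_mem _ fun i _ => ?_
  have hdeg : (p i).natDegree < Finset.univ.sup (fun i => (p i).natDegree) + 1 :=
    Nat.lt_succ_of_le (Finset.le_sup (f := fun i => (p i).natDegree) (Finset.mem_univ i))
  rw [Polynomial.as_sum_range' (p i) _ hdeg, Finset.sum_smul]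
  refine Submodule.sum_mem _ fun j hj => ?_
  rw [← Polynomial.C_mul_X_pow_eq_monomial, mul_smul, ← hsm, ← hX]
  exact Submodule.smul_mem _ _ (Submodule.subset_span ⟨j, Finset.mem_range.1 hj, i, rfl⟩)

theorem gfprop_mvPolynomial (n : ℕ) : GFprop R (MvPolynomial (Fin n) R) := by
  induction n with
  | zero =>
    intro N _ _ _ _ _
    haveI : Module.Finite R (MvPolynomial (Fin 0) R) :=
      Module.Finite.equiv (MvPolynomial.isEmptyAlgEquiv R (Fin 0)).symm.toLinearEquiv
    haveI : Module.Finite R N := Module.Finite.trans (MvPolynomial (Fin 0) R) N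
    exact exists_freeAway_of_finite N
  | succ n ih =>
    exact gfprop_of_surjective (MvPolynomial.finSuccEquiv R n).symm.toAlgHom
      (MvPolynomial.finSuccEquiv R n).symm.surjective
      (gfprop_polynomial (genNoeth_mvPolynomial n) ih)

theorem gfprop_of_finiteType (A : Type u) [CommRing A] [Algebra R A] [Algebra.FiniteType R A] :
    GFprop R A := by
  obtain ⟨n, φ, hφ⟩ := Algebra.FiniteType.iff_quotient_mvPolynomial''.1
    (inferInstance : Algebra.FiniteType R A)
  exact gfprop_of_surjective φ hφ (gfprop_mvPolynomial n)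

end Wrap

end Groth.Agent.Lib.Helper55.GF
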