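import Groth.Agent.Lib.Helper55.GF.Chain
import Mathlib.Algebra.Module.Submodule.RestrictScalars
import Mathlib.Algebra.Module.Submodule.Range
import Mathlib.LinearAlgebra.Quotient.Basic
import Mathlib.RingTheory.Finiteness.Quotient

set_option autoImplicit false
universe u

namespace Groth.Agent.Lib.Helper55.GF

variable (R : Type u) [CommRing R]

def GenNoeth (P : Type u) [CommRing P] [Algebra R P] : Prop :=
  ∀ (q : ℕ) (W : Submodule P (Fin q → P)), ∃ s : Finset (Fin q → P),
    (↑s : Set (Fin q → P)) ⊆ W ∧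
    ∀ w ∈ W, ∃ r : R, r ≠ 0 ∧ r • w ∈ Submodule.span P (s : Set (Fin q → P))

def GFprop (P : Type u) [CommRing P] [Algebra R P] : Prop :=
  ∀ (N : Type u) [AddCommGroup N] [Module P N] [Module R N] [IsScalarTower R P N]
    [Module.Finite P N], ∃ f : R, f ≠ 0 ∧ FreeAway N f

variable {R}

section Core

variable [IsDomain R] {P : Type u} [CommRing P] [Algebra R P]
  (M : Type u) [AddCommGroup M] [Module R M] [Module P M] [IsScalarTower R P M]

theorem core (hN : GenNoeth R P) (hP : GFprop R P) (X : M →ₗ[P] M) {q : ℕ} (g : Fin q → M)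
    (hg : ∀ m : M, ∃ k, m ∈ Submodule.span P {y | ∃ j, j < k ∧ ∃ i, y = (X ^ j) (g i)}) :
    ∃ f : R, f ≠ 0 ∧ FreeAway M f := by
  classical
  let G : ℕ → Submodule P M := fun k =>
    Submodule.span P {y | ∃ j, j < k ∧ ∃ i, y = (X ^ j) (g i)}
  let ψ : ℕ → (Fin q → P) →ₗ[P] M := fun k => Fintype.linearCombination P fun i => (X ^ k) (g i)
  have hG0 : G 0 = ⊥ := by
    show Submodule.span P _ = ⊥
    rw [Submodule.span_eq_bot]
    rintro y ⟨j, hj, -⟩
    exact absurd hj (Nat.not_lt_zero j)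
  have hGsucc : ∀ k, G (k + 1) = G k ⊔ LinearMap.range (ψ k) := by
    intro k
    show Submodule.span P _ = Submodule.span P _ ⊔ LinearMap.range (Fintype.linearCombination P _)
    rw [Fintype.range_linearCombination, ← Submodule.span_union]
    congr 1
    ext y
    constructor
    · rintro ⟨j, hj, i, rfl⟩
      rcases Nat.lt_succ_iff_lt_or_eq.1 hj with h | h
      · exact Or.inl ⟨j, h, i, rfl⟩
      · exact Or.inr ⟨i, by rw [h]⟩
    · rintro (⟨j, hj, i, rfl⟩ | ⟨i, rfl⟩)
      · exact ⟨j, Nat.lt_succ_of_lt hj, i, rfl⟩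
      · exact ⟨k, Nat.lt_succ_self k, i, rfl⟩
  have hGmono : Monotone G := by
    apply monotone_nat_of_le_succ
    intro k
    rw [hGsucc]
    exact le_sup_left
  have hXG : ∀ k, ∀ y ∈ G k, X y ∈ G (k + 1) := by
    intro k y hy
    have : Submodule.map X (G k) ≤ G (k + 1) := by
      show Submodule.map X (Submodule.span P _) ≤ Submodule.span P _
      rw [Submodule.map_span, Submodule.span_le]
      rintro _ ⟨_, ⟨j, hj, i, rfl⟩, rfl⟩
      apply Submodule.subset_span
      refine ⟨j + 1, Nat.succ_lt_succ hj, i, ?_⟩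
      rw [pow_succ', Module.End.mul_apply]
    exact this ⟨y, hy, rfl⟩
  have hψsucc : ∀ k a, ψ (k + 1) a = X (ψ k a) := by
    intro k a
    show Fintype.linearCombination P _ a = X (Fintype.linearCombination P _ a)
    rw [Fintype.linearCombination_apply, Fintype.linearCombination_apply, map_sum]
    refine Finset.sum_congr rfl fun i _ => ?_
    rw [map_smul, pow_succ', Module.End.mul_apply]
  let Z : ℕ → Submodule P (Fin q → P) := fun k => (G k).comap (ψ k)
  have hZmono : Monotone Z := by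
    apply monotone_nat_of_le_succ
    intro k a ha
    show ψ (k + 1) a ∈ G (k + 1)
    rw [hψsucc]
    exact hXG k _ ha
  obtain ⟨s, hsW, hs⟩ := hN q (⨆ k, Z k)
  have hsk : ∀ x ∈ s, ∃ k, x ∈ Z k := fun x hx =>
    (Submodule.mem_iSup_of_directed Z hZmono.directed_le).1 (hsW hx)
  choose! kx hkx using hsk
  let k₀ : ℕ := s.sup kx
  have hsk₀ : Submodule.span P (s : Set (Fin q → P)) ≤ Z k₀ := by
    rw [Submodule.span_le]
    intro x hx
    exact hZmono (Finset.le_sup (f := kx) hx) (hkx x hx)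
  have htor : ∀ k, ∀ z ∈ Z k, ∃ r : R, r ≠ 0 ∧ r • z ∈ Z k₀ := by
    intro k z hz
    obtain ⟨r, hr, hrz⟩ := hs z (Submodule.mem_iSup_of_mem k hz)
    exact ⟨r, hr, hsk₀ hrz⟩
  have hIH : ∀ k, ∃ f : R, f ≠ 0 ∧ FreeAway ((Fin q → P) ⧸ Z k) f := fun k =>
    hP ((Fin q → P) ⧸ Z k)
  choose fk hfk0 hfk using hIH
  let f : R := ∏ k ∈ Finset.range (k₀ + 1), fk k
  have hf0 : f ≠ 0 := Finset.prod_ne_zero_iff.2 fun k _ => hfk0 k
  have hZfree : ∀ k, k ≤ k₀ → FreeAwayMod f ((Z k).restrictScalars R) ⊤ := by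
    intro k hk
    have h1 : FreeAwayMod (fk k) (LinearMap.ker ((Z k).mkQ.restrictScalars R)) ⊤ :=
      freeAwayMod_ker_of_freeAway ((Z k).mkQ.restrictScalars R)
        (Submodule.mkQ_surjective (Z k)) (hfk k)
    have h2 : LinearMap.ker ((Z k).mkQ.restrictScalars R) = (Z k).restrictScalars R := by
      ext a
      simp
    rw [h2] at h1
    have h3 : f = fk k * ∏ j ∈ (Finset.range (k₀ + 1)).erase k, fk j :=
      (Finset.mul_prod_erase _ _ (Finset.mem_range.2 (Nat.lt_succ_of_le hk))).symm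
    rw [h3]
    exact h1.mul_right _
  have hZfree' : ∀ k, FreeAwayMod f ((Z k).restrictScalars R) ⊤ := by
    intro k
    rcases le_total k k₀ with hk | hk
    · exact hZfree k hk
    · exact FreeAwayMod.of_torsion (Z := (Z k₀).restrictScalars R) (hZmono hk)
        (fun z hz => htor k z hz) (hZfree k₀ le_rfl)
  refine ⟨f, hf0, ?_⟩
  refine FreeAway.of_chain (fun k => (G k).restrictScalars R) ?_ ?_ ?_ ?_
  · show (G 0).restrictScalars R = ⊥
    rw [hG0]
    exact Submodule.restrictScalars_bot ..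
  · intro a b hab
    exact hGmono hab
  · intro m
    obtain ⟨k, hk⟩ := hg m
    exact ⟨k, hk⟩
  · intro k
    have h1 := FreeAwayMod.transfer ((ψ k).restrictScalars R) ((G k).restrictScalars R)
      (hZfree' k)
    have h2 : (G k).restrictScalars R ⊔ LinearMap.range ((ψ k).restrictScalars R) =
        (G (k + 1)).restrictScalars R := by
      rw [hGsucc, Submodule.restrictScalars_sup, LinearMap.range_restrictScalars]
    rw [h2] at h1
    exact h1

end Core

end Groth.Agent.Lib.Helper55.GF
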